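import Groth.Agent.Triage.ZMTBir
import Mathlib

/-! # Dominant maps injective on rational points, characteristic zero -/

universe u

open CategoryTheory Limits AlgebraicGeometry

set_option backward.isDefEq.respectTransparency false
set_option backward.isDefEq.respectTransparency.types false

namespace Groth.Agent.InjBir

variable {k : Type u} [Field k] [IsAlgClosed k] {X Y : Scheme.{u}}

theorem universallyInjective_of_points (sX : X ⟶ Spec (CommRingCat.of k))
    [LocallyOfFiniteType sX] (sY : Y ⟶ Spec (CommRingCat.of k)) (f : X ⟶ Y) (hf : f ≫ sY = sX)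
    [IsSeparated f]
    (hinj : ∀ a b : Spec (CommRingCat.of k) ⟶ X, a ≫ sX = 𝟙 _ → b ≫ sX = 𝟙 _ → a ≫ f = b ≫ f → a = b) :
    UniversallyInjective f := by
  haveI : LocallyOfFiniteType f := by
    haveI : LocallyOfFiniteType (f ≫ sY) := by rw [hf]; infer_instance
    exact locallyOfFiniteType_of_comp f sY
  rw [UniversallyInjective.iff_diagonal]
  let π : pullback f f ⟶ Spec (CommRingCat.of k) := pullback.fst f f ≫ sX
  haveI : JacobsonSpace ↥(pullback f f) := LocallyOfFiniteType.jacobsonSpace π
  have hsub : closedPoints ↥(pullback f f) ⊆ Set.range (pullback.diagonal f) := fun z hz => by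
    let p := (pointEquivClosedPoint π).symm ⟨z, hz⟩
    have hp : p.1 ≫ π = 𝟙 _ := p.2
    have hpz : p.1 (IsLocalRing.closedPoint k) = z := by
      have := congrArg Subtype.val ((pointEquivClosedPoint π).apply_symm_apply ⟨z, hz⟩)
      exact this
    have heq : p.1 ≫ pullback.fst f f = p.1 ≫ pullback.snd f f := by
      refine hinj _ _ (by rw [Category.assoc]; exact hp) ?_ ?_
      · rw [Category.assoc, ← hf, ← pullback.condition_assoc, hf]; exact hp
      · rw [Category.assoc, Category.assoc, pullback.condition]
    have hfac : (p.1 ≫ pullback.fst f f) ≫ pullback.diagonal f = p.1 := by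
      apply pullback.hom_ext
      · simp
      · rw [Category.assoc, pullback.diagonal_snd, Category.comp_id]; exact heq
    rw [← hpz, ← hfac, Scheme.Hom.comp_apply]
    exact ⟨_, rfl⟩
  refine ⟨fun z => ?_⟩
  have h1 : closure (closedPoints ↥(pullback f f)) ⊆ Set.range (pullback.diagonal f) :=
    (pullback.diagonal f).isClosedEmbedding.isClosed_range.closure_subset_iff.2 hsub
  rw [closure_closedPoints] at h1
  exact h1 (Set.mem_univ z)

theorem isIso_stalkMap_genericPoint [CharZero k] [IsIntegral X] [IsIntegral Y]
    (sY : Y ⟶ Spec (CommRingCat.of k)) (f : X ⟶ Y) [UniversallyInjective f]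
    (hgen : f (genericPoint X) = genericPoint Y) : IsIso (f.stalkMap (genericPoint X)) := by
  have htfae : UniversallyInjective f →
      Function.Injective f ∧ ∀ x, (f.residueFieldMap x).hom.IsPurelyInseparable :=
    ((tfae_universallyInjective f).out 0 2).1
  have hpi := (htfae ‹_›).2 (genericPoint X)
  haveI : CharZero (Y.residueField (f (genericPoint X))) := by
    let φ : k →+* Y.residueField (f (genericPoint X)) :=
      ((Scheme.ΓSpecIso (CommRingCat.of k)).inv ≫ sY.app ⊤ ≫
        Y.presheaf.germ _ (f (genericPoint X)) trivial ≫ Y.residue (f (genericPoint X))).hom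
    exact charZero_of_injective_ringHom φ.injective
  have hres : Function.Bijective (f.residueFieldMap (genericPoint X)).hom := by
    refine ⟨RingHom.injective _, ?_⟩
    algebraize [(f.residueFieldMap (genericPoint X)).hom]
    have : IsPurelyInseparable (Y.residueField (f (genericPoint X))) (X.residueField (genericPoint X)) := hpi
    exact IsPurelyInseparable.surjective_algebraMap_of_isSeparable _ _
  have hfX : IsField (X.presheaf.stalk (genericPoint X)) :=
    Field.toIsField X.functionField
  have hfY : IsField (Y.presheaf.stalk (f (genericPoint X))) := by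
    rw [hgen]; exact Field.toIsField Y.functionField
  have hrY : Function.Bijective (Y.residue (f (genericPoint X))).hom := by
    refine ⟨?_, Y.residue_surjective _⟩
    letI := hfY.toField
    exact RingHom.injective _
  have hrX : Function.Bijective (X.residue (genericPoint X)).hom := by
    refine ⟨?_, X.residue_surjective _⟩
    letI := hfX.toField
    exact RingHom.injective _
  have hcomm := Scheme.residue_residueFieldMap f (genericPoint X)
  refine (ConcreteCategory.isIso_iff_bijective _).2 ((Function.Bijective.of_comp_iff' hrX _).1 ?_)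
  have heq : (X.residue (genericPoint X)).hom ∘ (f.stalkMap (genericPoint X)).hom =
      (f.residueFieldMap (genericPoint X)).hom ∘ (Y.residue (f (genericPoint X))).hom := by
    funext a
    exact (congrArg (fun m => m.hom a) hcomm).symm
  show Function.Bijective ((X.residue (genericPoint X)).hom ∘ (f.stalkMap (genericPoint X)).hom)
  rw [heq]
  exact hres.comp hrY

theorem isOpenImmersion_of_injective [CharZero k] (sX : X ⟶ Spec (CommRingCat.of k))
    (sY : Y ⟶ Spec (CommRingCat.of k)) [IsIntegral X] [IsIntegral Y] [IsSeparated sX]
    [IsSeparated sY] [LocallyOfFiniteType sX] [QuasiCompact sX]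
    (hY : Pi1.IsNormalScheme Y) (f : X ⟶ Y) (hf : f ≫ sY = sX) [IsDominant f]
    (hinj : ∀ a b : Spec (CommRingCat.of k) ⟶ X, a ≫ sX = 𝟙 _ → b ≫ sX = 𝟙 _ → a ≫ f = b ≫ f → a = b) :
    IsOpenImmersion f := by
  haveI : IsSeparated (f ≫ sY) := by rw [hf]; infer_instance
  haveI : IsSeparated f := IsSeparated.of_comp f sY
  haveI : LocallyOfFiniteType (f ≫ sY) := by rw [hf]; infer_instance
  haveI : LocallyOfFiniteType f := locallyOfFiniteType_of_comp f sY
  haveI : QuasiCompact (f ≫ sY) := by rw [hf]; infer_instance
  haveI : QuasiCompact f := QuasiCompact.of_comp f sY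
  haveI := universallyInjective_of_points sX sY f hf hinj
  haveI : LocallyQuasiFinite f := by
    rw [locallyQuasiFinite_iff_isDiscrete_preimage_singleton]
    intro y
    exact (Set.subsingleton_singleton.preimage f.injective).isDiscrete
  have hgen : f (genericPoint X) = genericPoint Y := by
    have h := (genericPoint_spec X).image f.continuous
    rw [Set.image_univ, f.denseRange.closure_range] at h
    exact h.eq (genericPoint_spec Y)
  exact Triage.ZMTBir.isOpenImmersion_of_birational (fun y => (hY y).2) f hgen
    (isIso_stalkMap_genericPoint sY f hgen)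

end Groth.Agent.InjBir
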